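import Cfsg.Agent.ONModel.NKAll
import Cfsg.Agent.ONModel.NKAAll
import Cfsg.Agent.SporadicRecognition.CosetCertHyp
import Cfsg.Agent.ONType.Hom

/-!
# The order bound for the centraliser of an involution in the presented O'Nan group

`Rels a b c d f g`: the relations of `Hom.RelF` together with `(d g)^4 = f` and `(c g)^4 = a`.
`card_le`: they imply `|⟨a, b, c, d, f, g⟩| ≤ 161280` (630 cosets of `⟨a, c, d, f, g⟩`, of order `≤ 256`).
-/

set_option autoImplicit false

namespace Cfsg.Agent.ONModel.Bound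

open Cfsg.Agent.SporadicRecognition.CosetCert Cfsg.Agent.SporadicRecognition.CosetCertHyp

variable {G : Type*} [Group G] {a b c d f g : G}

/-- The relations of the presented O'Nan group inside the centraliser of `f`. -/
structure Rels (a b c d f g : G) : Prop extends Cfsg.Agent.ONType.Hom.RelF a b c d f g where
  dg4 : (d * g) ^ 4 = f
  cg4 : (c * g) ^ 4 = a

private theorem comm_rel {x y : G} (hx : x * x = 1) (hy : y * y = 1) (h : x * y = y * x) :
    x * (y * (x * (y * 1))) = 1 := by
  rw [mul_one, ← mul_assoc, ← mul_assoc, h, mul_assoc y x x, hx, mul_one, hy]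

/-- letters of the small certificate -/
def lA (a c d f g : G) : ℕ → G
  | 0 => a
  | 1 => c
  | 2 => d
  | 3 => f
  | 4 => g
  | 5 => g⁻¹
  | _ => 1

/-- letters of the large certificate -/
def lK (a b c d f g : G) : ℕ → G
  | 0 => a
  | 1 => b
  | 2 => c
  | 3 => d
  | 4 => f
  | 5 => g
  | 6 => g⁻¹
  | _ => 1

variable (h : Rels a b c d f g)
include h

theorem w_afgg : a * (f * (g⁻¹ * (g⁻¹ * 1))) = 1 := by
  rw [mul_one, ← mul_assoc, h.gg]; group

theorem w_dg4 : d * (g * (d * (g * (d * (g * (d * (g * (f * 1)))))))) = 1 := by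
  have h1 : d * (g * (d * (g * (d * (g * (d * (g * (f * 1)))))))) = (d * g) ^ 4 * f := by
    simp only [pow_succ, pow_zero, one_mul, mul_one, mul_assoc]
  rw [h1, h.dg4, h.ff]

theorem w_cg4 : c * (g * (c * (g * (c * (g * (c * (g * (a * 1)))))))) = 1 := by
  have h1 : c * (g * (c * (g * (c * (g * (c * (g * (a * 1)))))))) = (c * g) ^ 4 * a := by
    simp only [pow_succ, pow_zero, one_mul, mul_one, mul_assoc]
  rw [h1, h.cg4, h.aa]

theorem w_af4 : a * (f * (c * (d * (c * (d * (c * (d * (c * (d * 1))))))))) = 1 := by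
  have h1 : a * (f * (c * (d * (c * (d * (c * (d * (c * (d * 1))))))))) = a * f * (c * d) ^ 4 := by
    simp only [pow_succ, pow_zero, one_mul, mul_one, mul_assoc]
  rw [h1, ← h.cd4]
  calc a * f * (a * f) = a * (f * a) * f := by group
    _ = a * (a * f) * f := by rw [← h.af]
    _ = (a * a) * (f * f) := by group
    _ = 1 := by rw [h.aa, h.ff, one_mul]

theorem w_cg : c * (g⁻¹ * (d * (g⁻¹ * (d * (c * (d * (g * (d * (g * 1))))))))) = 1 := by
  have hd : d⁻¹ = d := inv_eq_of_mul_eq_one_right h.dd
  have h1 := h.cg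
  rw [mul_inv_rev, mul_inv_rev, mul_inv_rev, hd] at h1
  simpa only [mul_assoc, mul_one] using h1

theorem w_dg : d * (g⁻¹ * (c * (g⁻¹ * (c * (d * (c * (g * (c * (g * 1))))))))) = 1 := by
  have hc : c⁻¹ = c := inv_eq_of_mul_eq_one_right h.cc
  have h1 := h.dg
  rw [mul_inv_rev, mul_inv_rev, mul_inv_rev, hc] at h1
  simpa only [mul_assoc, mul_one] using h1

theorem w_cd8 : c * (d * (c * (d * (c * (d * (c * (d * (c * (d * (c * (d * (c * (d * (c * (d * 1))))))))))))))) = 1 := by
  have h1 : c * (d * (c * (d * (c * (d * (c * (d * (c * (d * (c * (d * (c * (d * (c * (d * 1))))))))))))))) =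
      (c * d) ^ 8 := by
    simp only [pow_succ, pow_zero, one_mul, mul_one, mul_assoc]
  rw [h1, h.cd]

theorem w_ab3 : a * (b * (a * (b * (a * (b * 1))))) = 1 := by
  have h1 : a * (b * (a * (b * (a * (b * 1))))) = (a * b) ^ 3 := by
    simp only [pow_succ, pow_zero, one_mul, mul_one, mul_assoc]
  rw [h1, h.ab]

theorem w_bc3 : b * (c * (b * (c * (b * (c * 1))))) = 1 := by
  have h1 : b * (c * (b * (c * (b * (c * 1))))) = (b * c) ^ 3 := by
    simp only [pow_succ, pow_zero, one_mul, mul_one, mul_assoc]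
  rw [h1, h.bc]

theorem w_five : b * (c * (d * (g * (b * (c * (d * (g * (b * (c * (d * (g * (b * (c * (d * (g *
    (b * (c * (d * (g * 1))))))))))))))))))) = 1 := by
  have h1 : b * (c * (d * (g * (b * (c * (d * (g * (b * (c * (d * (g * (b * (c * (d * (g *
    (b * (c * (d * (g * 1))))))))))))))))))) = (b * c * d * g) ^ 5 := by
    simp only [pow_succ, pow_zero, one_mul, mul_one, mul_assoc]
  rw [h1, h.five]

theorem w_gb : g * (b * (c * (g * (c * (b * (g * (b * (c * (g * (c * 1)))))))))) = 1 := by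
  have hc : c⁻¹ = c := inv_eq_of_mul_eq_one_right h.cc
  have hb : b⁻¹ = b := inv_eq_of_mul_eq_one_right h.bb
  have h1 := h.gb
  rw [hc, hb] at h1
  simpa only [mul_assoc, mul_one] using h1

theorem relsA : ∀ r ∈ NKAData.rels, ev (lA a c d f g) r = 1 := by
  unfold NKAData.rels
  simp only [List.forall_mem_cons, ev_cons, ev_nil, lA]
  refine ⟨comm_rel h.aa h.cc h.ac, comm_rel h.aa h.dd h.ad, comm_rel h.aa h.ff h.af,
    comm_rel h.cc h.ff h.cf, comm_rel h.dd h.ff h.df, w_afgg h, w_dg4 h, w_cg4 h, w_af4 h, w_cg h, w_dg h,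
    w_cd8 h, ?_⟩
  simp

theorem relsK : ∀ r ∈ NKData.rels, ev (lK a b c d f g) r = 1 := by
  unfold NKData.rels
  simp only [List.forall_mem_cons, ev_cons, ev_nil, lK]
  refine ⟨comm_rel h.aa h.cc h.ac, comm_rel h.aa h.dd h.ad, comm_rel h.aa h.ff h.af,
    comm_rel h.bb h.dd h.bd, comm_rel h.bb h.ff h.bf,
    comm_rel h.cc h.ff h.cf, comm_rel h.dd h.ff h.df, w_afgg h, w_ab3 h, w_bc3 h, w_dg4 h, w_cg4 h,
    w_af4 h, w_cg h, w_dg h, w_gb h, w_cd8 h, w_five h, ?_⟩
  simp

theorem invA : ∀ x, x < NKAData.C.k → NKAData.C.inv x < NKAData.C.k ∧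
    lA a c d f g x * lA a c d f g (NKAData.C.inv x) = 1 := by
  have hk : NKAData.C.k = 6 := rfl
  rw [hk]
  intro x hx
  interval_cases x
  · exact ⟨by decide +kernel, h.aa⟩
  · exact ⟨by decide +kernel, h.cc⟩
  · exact ⟨by decide +kernel, h.dd⟩
  · exact ⟨by decide +kernel, h.ff⟩
  · exact ⟨by decide +kernel, mul_inv_cancel g⟩
  · exact ⟨by decide +kernel, inv_mul_cancel g⟩

theorem invK : ∀ x, x < NKData.C.k → NKData.C.inv x < NKData.C.k ∧
    lK a b c d f g x * lK a b c d f g (NKData.C.inv x) = 1 := by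
  have hk : NKData.C.k = 7 := rfl
  rw [hk]
  intro x hx
  interval_cases x
  · exact ⟨by decide +kernel, h.aa⟩
  · exact ⟨by decide +kernel, h.bb⟩
  · exact ⟨by decide +kernel, h.cc⟩
  · exact ⟨by decide +kernel, h.dd⟩
  · exact ⟨by decide +kernel, h.ff⟩
  · exact ⟨by decide +kernel, mul_inv_cancel g⟩
  · exact ⟨by decide +kernel, inv_mul_cancel g⟩

theorem imageA : Subgroup.closure (lA a c d f g '' {x | x < NKAData.C.k}) =
    Subgroup.closure {a, c, d, f, g} := by
  have hk : NKAData.C.k = 6 := rfl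
  apply le_antisymm
  · rw [Subgroup.closure_le, hk]
    rintro _ ⟨x, hx, rfl⟩
    have hx' : x < 6 := hx
    interval_cases x
    · exact Subgroup.subset_closure (by simp [lA])
    · exact Subgroup.subset_closure (by simp [lA])
    · exact Subgroup.subset_closure (by simp [lA])
    · exact Subgroup.subset_closure (by simp [lA])
    · exact Subgroup.subset_closure (by simp [lA])
    · exact Subgroup.inv_mem _ (Subgroup.subset_closure (by simp))
  · apply Subgroup.closure_mono
    rw [hk]
    intro y hy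
    simp only [Set.mem_insert_iff, Set.mem_singleton_iff] at hy
    rcases hy with rfl | rfl | rfl | rfl | rfl
    · exact ⟨0, by norm_num, rfl⟩
    · exact ⟨1, by norm_num, rfl⟩
    · exact ⟨2, by norm_num, rfl⟩
    · exact ⟨3, by norm_num, rfl⟩
    · exact ⟨4, by norm_num, rfl⟩

theorem imageK : Subgroup.closure (lK a b c d f g '' {x | x < NKData.C.k}) =
    Subgroup.closure {a, b, c, d, f, g} := by
  have hk : NKData.C.k = 7 := rfl
  apply le_antisymm
  · rw [Subgroup.closure_le, hk]
    rintro _ ⟨x, hx, rfl⟩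
    have hx' : x < 7 := hx
    interval_cases x
    · exact Subgroup.subset_closure (by simp [lK])
    · exact Subgroup.subset_closure (by simp [lK])
    · exact Subgroup.subset_closure (by simp [lK])
    · exact Subgroup.subset_closure (by simp [lK])
    · exact Subgroup.subset_closure (by simp [lK])
    · exact Subgroup.subset_closure (by simp [lK])
    · exact Subgroup.inv_mem _ (Subgroup.subset_closure (by simp))
  · apply Subgroup.closure_mono
    rw [hk]
    intro y hy
    simp only [Set.mem_insert_iff, Set.mem_singleton_iff] at hy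
    rcases hy with rfl | rfl | rfl | rfl | rfl | rfl
    · exact ⟨0, by norm_num, rfl⟩
    · exact ⟨1, by norm_num, rfl⟩
    · exact ⟨2, by norm_num, rfl⟩
    · exact ⟨3, by norm_num, rfl⟩
    · exact ⟨4, by norm_num, rfl⟩
    · exact ⟨5, by norm_num, rfl⟩

theorem card_A_le : Finite (Subgroup.closure {a, c, d, f, g}) ∧
    Nat.card (Subgroup.closure {a, c, d, f, g}) ≤ 256 := by
  have hyp : Hyp NKAData.C (⊥ : Subgroup G) (lA a c d f g) :=
    hyp_of_checks ⊥ (lA a c d f g) NKAData.C NKAData.rels NKAData.subw rfl (invA h) (relsA h)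
      (by unfold NKAData.subw; simp) (by decide +kernel)
  have := card_closure_le NKAData.C ⊥ (lA a c d f g) hyp NKAAll.part
  rw [imageA h, Subgroup.card_bot, mul_one] at this
  exact this

theorem card_le : Finite (Subgroup.closure {a, b, c, d, f, g}) ∧
    Nat.card (Subgroup.closure {a, b, c, d, f, g}) ≤ 161280 := by
  obtain ⟨hfin, hA⟩ := card_A_le h
  have hyp : Hyp NKData.C (Subgroup.closure {a, c, d, f, g}) (lK a b c d f g) :=
    hyp_of_checks _ (lK a b c d f g) NKData.C NKData.rels NKData.subw rfl (invK h) (relsK h)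
      (by
        unfold NKData.subw
        simp only [List.forall_mem_cons, ev_cons, ev_nil, lK, mul_one]
        refine ⟨Subgroup.subset_closure (by simp), Subgroup.subset_closure (by simp),
          Subgroup.subset_closure (by simp), Subgroup.subset_closure (by simp),
          Subgroup.subset_closure (by simp), ?_⟩
        simp) (by decide +kernel)
  have := card_closure_le NKData.C _ (lK a b c d f g) hyp NKAll.part
  rw [imageK h] at this
  refine ⟨this.1, this.2.trans ?_⟩
  calc 630 * Nat.card (Subgroup.closure {a, c, d, f, g}) ≤ 630 * 256 := Nat.mul_le_mul_left _ hA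
    _ = 161280 := by norm_num

end Cfsg.Agent.ONModel.Bound
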