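import Cfsg.Agent.Lib.PackMat

/-!
# 8 x 8 matrices over `ZMod 3`, packed in one natural number (64 digits of 7 bits)

`mul A B` is evaluated by the kernel with about 60 `Nat` operations.  `toMat` is the semantics, `Ok` the canonical
codes; `toMat_mul`, `Ok.mul`, `Ok.inj`, `code`.
-/

set_option autoImplicit false

namespace Cfsg.Agent.ONModel.Mat8

open Cfsg.Agent.Lib.PackMat Finset

/-- digit number `8 i + j` is the entry `(i, j)` -/
def toMat (X : ℕ) : Matrix (Fin 8) (Fin 8) (ZMod 3) := fun i j => (dg 7 X (8 * (i : ℕ) + j) : ZMod 3)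

/-- canonical codes -/
def Ok (X : ℕ) : Prop := X < 2 ^ (7 * 64) ∧ ∀ i < 64, dg 7 X i < 3

/-- the outer product of column `k` of `A` and row `k` of `B` -/
noncomputable def termK (M W A B k : ℕ) : ℕ :=
  Nat.mul (Nat.land (Nat.shiftRight A (Nat.mul 7 k)) M) (Nat.mod (Nat.shiftRight B (Nat.mul 56 k)) W)

/-- the outer product of column `k` of `A` and row `k` of `B` -/
noncomputable def term (A B k : ℕ) : ℕ :=
  termK 0x7f0000000000007f0000000000007f0000000000007f0000000000007f0000000000007f0000000000007f0000000000007f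
    72057594037927936 A B k

/-- the sum of the outer products -/
noncomputable def outer (A B : ℕ) (n : ℕ) : ℕ :=
  Nat.rec (motive := fun _ => ℕ) 0 (fun k ih => Nat.add ih (term A B k)) n

/-- digitwise reduction modulo 3 of digits `≤ 32` -/
noncomputable def redK (P Q X : ℕ) : ℕ :=
  force (Nat.add (Nat.land X P) (Nat.land (Nat.shiftRight X 2) Q))
    fun Y => Nat.sub Y (Nat.mul 3 (Nat.land (Nat.shiftRight (Nat.mul Y 11) 5) P))

/-- digitwise reduction modulo 3 of digits `≤ 32` -/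
noncomputable def red (X : ℕ) : ℕ :=
  redK
    0x60c183060c183060c183060c183060c183060c183060c183060c183060c183060c183060c183060c183060c183060c183060c183060c183
    0x3e7cf9f3e7cf9f3e7cf9f3e7cf9f3e7cf9f3e7cf9f3e7cf9f3e7cf9f3e7cf9f3e7cf9f3e7cf9f3e7cf9f3e7cf9f3e7cf9f3e7cf9f3e7cf9f X

/-- product of two packed matrices -/
noncomputable def mul (A B : ℕ) : ℕ := force (outer A B 8) red

theorem mc_eq : 0x7f0000000000007f0000000000007f0000000000007f0000000000007f0000000000007f0000000000007f0000000000007f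
    = 127 * rep 56 8 := by decide +kernel

theorem three_eq :
    0x60c183060c183060c183060c183060c183060c183060c183060c183060c183060c183060c183060c183060c183060c183060c183060c183
    = 3 * rep 7 64 := by decide +kernel

theorem thirty_eq :
    0x3e7cf9f3e7cf9f3e7cf9f3e7cf9f3e7cf9f3e7cf9f3e7cf9f3e7cf9f3e7cf9f3e7cf9f3e7cf9f3e7cf9f3e7cf9f3e7cf9f3e7cf9f3e7cf9f
    = 31 * rep 7 64 := by decide +kernel

theorem w_eq : 72057594037927936 = 2 ^ (7 * 8) := by decide +kernel

theorem termK_def (M W A B k : ℕ) :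
    termK M W A B k = ((A >>> (7 * k)) &&& M) * ((B >>> (56 * k)) % W) := rfl

theorem redK_def (P Q X : ℕ) :
    redK P Q X = ((X &&& P) + ((X >>> 2) &&& Q)) - 3 * (((((X &&& P) + ((X >>> 2) &&& Q)) * 11) >>> 5) &&& P) := rfl

theorem dg_shift_col (A k i : ℕ) : dg 56 (A / 2 ^ (7 * k)) i &&& 127 = dg 7 A (8 * i + k) := by
  have h1 : (127 : ℕ) = 2 ^ 7 - 1 := by norm_num
  rw [h1, Nat.and_two_pow_sub_one_eq_mod, dg_def, dg_def, Nat.div_div_eq_div_mul, ← pow_add,
    Nat.mod_mod_of_dvd _ (pow_dvd_pow 2 (by norm_num : 7 ≤ 56))]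
  congr 3
  ring

theorem dg_shift_row (B k j : ℕ) : dg 7 (B / 2 ^ (56 * k)) j = dg 7 B (8 * k + j) := by
  rw [dg_def, dg_def, Nat.div_div_eq_div_mul, ← pow_add]
  congr 3
  ring

theorem E_split (f : ℕ → ℕ) (m : ℕ) :
    E 7 f (8 * (m + 1)) = E 7 f (8 * m) + ∑ j ∈ range 8, f (8 * m + j) * 2 ^ (7 * (8 * m + j)) := by
  rw [E_def, E_def, Nat.mul_succ]
  exact sum_range_add _ _ _

theorem E_outer (f h : ℕ → ℕ) (m : ℕ) :
    E 56 f m * E 7 h 8 = E 7 (fun l => f (l / 8) * h (l % 8)) (8 * m) := by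
  induction m with
  | zero => rw [E_zero, zero_mul, Nat.mul_zero, E_zero]
  | succ m ih =>
    rw [E_succ, add_mul, ih, E_split]
    refine congrArg (fun t => E 7 (fun l => f (l / 8) * h (l % 8)) (8 * m) + t) ?_
    rw [E_def, mul_sum]
    apply sum_congr rfl
    intro j hj
    have hj8 : j < 8 := mem_range.mp hj
    have h1 : (8 * m + j) / 8 = m := by omega
    have h2 : (8 * m + j) % 8 = j := by omega
    rw [h1, h2]
    have h3 : 7 * (8 * m + j) = 56 * m + 7 * j := by ring
    rw [h3, pow_add]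
    ring

theorem term_eq (A B k : ℕ) :
    term A B k = E 7 (fun l => dg 7 A (8 * (l / 8) + k) * dg 7 B (8 * k + l % 8)) 64 := by
  have h0 : term A B k = ((A >>> (7 * k)) &&& (127 * rep 56 8)) * ((B >>> (56 * k)) % 2 ^ (7 * 8)) := by
    unfold term
    rw [mc_eq, w_eq, termK_def]
  rw [h0, Nat.shiftRight_eq_div_pow, Nat.shiftRight_eq_div_pow,
    land_rep (by norm_num) (by norm_num), ← E_dg_mod]
  rw [E_congr (s := 56) (f := fun i => dg 56 (A / 2 ^ (7 * k)) i &&& 127)
    (g := fun i => dg 7 A (8 * i + k)) (fun i _ => dg_shift_col A k i)]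
  rw [E_congr (s := 7) (f := dg 7 (B / 2 ^ (56 * k))) (g := fun j => dg 7 B (8 * k + j))
    (fun j _ => dg_shift_row B k j)]
  rw [E_outer]

theorem outer_eq (A B n : ℕ) : outer A B n =
    E 7 (fun l => ∑ k ∈ range n, dg 7 A (8 * (l / 8) + k) * dg 7 B (8 * k + l % 8)) 64 := by
  induction n with
  | zero =>
    have h : outer A B 0 = 0 := rfl
    rw [h, E_def]
    symm
    apply sum_eq_zero
    intro l _
    rw [range_zero, sum_empty, zero_mul]
  | succ n ih =>
    have h : outer A B (n + 1) = outer A B n + term A B n := rfl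
    rw [h, ih, term_eq, E_add]
    apply E_congr
    intro l _
    rw [sum_range_succ]

theorem E_sub {s : ℕ} {f g : ℕ → ℕ} {L : ℕ} (h : ∀ i < L, g i ≤ f i) :
    E s f L - E s g L = E s (fun i => f i - g i) L := by
  rw [Nat.sub_eq_iff_eq_add]
  · rw [E_add]
    exact E_congr fun i hi => (Nat.sub_add_cancel (h i hi)).symm
  · rw [E_def, E_def]
    exact sum_le_sum fun i hi => Nat.mul_le_mul_right _ (h i (mem_range.mp hi))

theorem shl_two (X : ℕ) : (X >>> 2) &&& (31 * rep 7 64) = E 7 (fun i => dg 7 X i / 2 ^ 2) 64 :=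
  shift_land_rep (s := 7) (r := 2) (L := 64) (by norm_num) (by norm_num) X

theorem shl_five (X : ℕ) : (X >>> 5) &&& (3 * rep 7 64) = E 7 (fun i => dg 7 X i / 2 ^ 5) 64 :=
  shift_land_rep (s := 7) (r := 5) (L := 64) (by norm_num) (by norm_num) X

theorem red_eq {f : ℕ → ℕ} (hf : ∀ i < 64, f i ≤ 32) : red (E 7 f 64) = E 7 (fun i => f i % 3) 64 := by
  have hfb : ∀ i < 64, f i < 2 ^ 7 := fun i hi => lt_of_le_of_lt (hf i hi) (by norm_num)
  have hY : (E 7 f 64 &&& (3 * rep 7 64)) + ((E 7 f 64 >>> 2) &&& (31 * rep 7 64)) =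
      E 7 (fun i => (f i % 4) + f i / 4) 64 := by
    rw [land_rep (by norm_num) (by norm_num), shl_two, E_add]
    apply E_congr
    intro i hi
    rw [dg_E hfb hi]
    congr 1
    have : (3 : ℕ) = 2 ^ 2 - 1 := by norm_num
    rw [this, Nat.and_two_pow_sub_one_eq_mod]
  set y : ℕ → ℕ := fun i => (f i % 4) + f i / 4 with hy
  have hyb : ∀ i < 64, y i ≤ 11 := by
    intro i hi
    have := hf i hi
    simp only [hy]
    omega
  have hq : ((E 7 y 64 * 11) >>> 5) &&& (3 * rep 7 64) =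
      E 7 (fun i => (y i * 11) / 2 ^ 5) 64 := by
    rw [E_mul_const, shl_five]
    apply E_congr
    intro i hi
    rw [dg_E (fun j hj => lt_of_le_of_lt (Nat.mul_le_mul_right 11 (hyb j hj)) (by norm_num)) hi]
  have h0 : red (E 7 f 64) = E 7 y 64 - 3 * (((E 7 y 64 * 11) >>> 5) &&& (3 * rep 7 64)) := by
    rw [← hY]
    unfold red
    rw [redK_def, three_eq, thirty_eq]
  rw [h0, hq, mul_comm 3, E_mul_const, E_sub]
  · apply E_congr
    intro i hi
    have h1 := hyb i hi
    have h2 : ∀ v ≤ 11, v - v * 11 / 2 ^ 5 * 3 = v % 3 := by decide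
    rw [h2 _ h1]
    simp only [hy]
    omega
  · intro i hi
    have h1 := hyb i hi
    have h2 : ∀ v ≤ 11, v * 11 / 2 ^ 5 * 3 ≤ v := by decide
    exact h2 _ h1

theorem sum_le {A B : ℕ} (hA : Ok A) (hB : Ok B) (l : ℕ) (hl : l < 64) :
    ∑ k ∈ range 8, dg 7 A (8 * (l / 8) + k) * dg 7 B (8 * k + l % 8) ≤ 32 := by
  have h : ∀ k ∈ range 8, dg 7 A (8 * (l / 8) + k) * dg 7 B (8 * k + l % 8) ≤ 4 := by
    intro k hk
    have hk8 : k < 8 := mem_range.mp hk
    have h1 : dg 7 A (8 * (l / 8) + k) ≤ 2 := Nat.lt_succ_iff.mp (hA.2 _ (by omega))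
    have h2 : dg 7 B (8 * k + l % 8) ≤ 2 := Nat.lt_succ_iff.mp (hB.2 _ (by omega))
    calc _ ≤ 2 * 2 := Nat.mul_le_mul h1 h2
      _ = 4 := rfl
  calc _ ≤ ∑ _k ∈ range 8, 4 := sum_le_sum h
    _ = 32 := by simp

theorem mul_eq {A B : ℕ} (hA : Ok A) (hB : Ok B) : mul A B =
    E 7 (fun l => (∑ k ∈ range 8, dg 7 A (8 * (l / 8) + k) * dg 7 B (8 * k + l % 8)) % 3) 64 := by
  rw [mul, force_eq, outer_eq, red_eq (sum_le hA hB)]

theorem Ok.mul {A B : ℕ} (hA : Ok A) (hB : Ok B) : Ok (mul A B) := by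
  have hb : ∀ l < 64, (∑ k ∈ range 8, dg 7 A (8 * (l / 8) + k) * dg 7 B (8 * k + l % 8)) % 3 < 2 ^ 7 :=
    fun l _ => lt_trans (Nat.mod_lt _ (by norm_num)) (by norm_num)
  rw [mul_eq hA hB]
  refine ⟨E_lt hb, fun i hi => ?_⟩
  rw [dg_E hb hi]
  exact Nat.mod_lt _ (by norm_num)

theorem toMat_mul {A B : ℕ} (hA : Ok A) (hB : Ok B) : toMat (mul A B) = toMat A * toMat B := by
  have hb : ∀ l < 64, (∑ k ∈ range 8, dg 7 A (8 * (l / 8) + k) * dg 7 B (8 * k + l % 8)) % 3 < 2 ^ 7 :=
    fun l _ => lt_trans (Nat.mod_lt _ (by norm_num)) (by norm_num)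
  ext i j
  rw [Matrix.mul_apply]
  unfold toMat
  rw [mul_eq hA hB, dg_E hb (by omega)]
  have h1 : (8 * (i : ℕ) + j) / 8 = i := by omega
  have h2 : (8 * (i : ℕ) + j) % 8 = j := by omega
  rw [h1, h2, ZMod.natCast_mod, Nat.cast_sum, Finset.sum_range]
  apply sum_congr rfl
  intro k _
  rw [Nat.cast_mul]

theorem Ok.inj {A B : ℕ} (hA : Ok A) (hB : Ok B) (h : toMat A = toMat B) : A = B := by
  apply ext_dg hA.1 hB.1
  intro l hl
  have h1 := congrFun (congrFun h ⟨l / 8, by omega⟩) ⟨l % 8, by omega⟩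
  unfold toMat at h1
  have e : 8 * (l / 8) + l % 8 = l := by omega
  simp only [e] at h1
  rw [ZMod.natCast_eq_natCast_iff'] at h1
  rwa [Nat.mod_eq_of_lt (hA.2 l hl), Nat.mod_eq_of_lt (hB.2 l hl)] at h1

/-- checks that a code is canonical -/
noncomputable def okB (X : ℕ) : Bool :=
  Nat.blt X 726838724295606890549323807888004534353641360687318060281490199180639288113397923326191050713763565560762521606266177933534601628614656 &&
    allBelow (fun i => Nat.blt (Nat.mod (Nat.shiftRight X (Nat.mul 7 i)) 128) 3) 64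

theorem lim_eq : 726838724295606890549323807888004534353641360687318060281490199180639288113397923326191050713763565560762521606266177933534601628614656 = 2 ^ (7 * 64) := by
  decide +kernel

theorem okB_spec {X : ℕ} (h : okB X = true) : Ok X := by
  unfold okB at h
  rw [Bool.and_eq_true] at h
  refine ⟨?_, fun i hi => ?_⟩
  · have := Nat.le_of_ble_eq_true h.1
    exact lt_of_lt_of_le this (le_of_eq lim_eq)
  · have := Nat.le_of_ble_eq_true (allBelow_spec h.2 i hi)
    rw [dg_def, ← Nat.shiftRight_eq_div_pow]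
    exact this

/-- the identity matrix -/
def one : ℕ :=
  0x200000000000000040000000000000008000000000000001000000000000000200000000000000040000000000000008000000000000001

theorem toMat_one : toMat one = 1 := by
  have h : ∀ i j : Fin 8, ((dg 7 one (8 * (i : ℕ) + j) : ℕ) : ZMod 3) = if i = j then 1 else 0 := by
    decide +kernel
  ext i j
  rw [Matrix.one_apply]
  exact h i j

theorem ok_one : Ok one := okB_spec (by decide +kernel)

/-- the code of a matrix -/
noncomputable def code (M : Matrix (Fin 8) (Fin 8) (ZMod 3)) : ℕ :=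
  E 7 (fun l => if h : l < 64 then (M ⟨l / 8, by omega⟩ ⟨l % 8, by omega⟩).val else 0) 64

theorem code_lt (M : Matrix (Fin 8) (Fin 8) (ZMod 3)) (l : ℕ) (hl : l < 64) :
    (if h : l < 64 then (M ⟨l / 8, by omega⟩ ⟨l % 8, by omega⟩).val else 0) < 3 := by
  rw [dif_pos hl]
  exact ZMod.val_lt _

theorem ok_code (M : Matrix (Fin 8) (Fin 8) (ZMod 3)) : Ok (code M) := by
  have hb : ∀ l < 64, (if h : l < 64 then (M ⟨l / 8, by omega⟩ ⟨l % 8, by omega⟩).val else 0) < 2 ^ 7 :=
    fun l hl => lt_trans (code_lt M l hl) (by norm_num)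
  refine ⟨E_lt hb, fun l hl => ?_⟩
  unfold code
  rw [dg_E hb hl]
  exact code_lt M l hl

theorem toMat_code (M : Matrix (Fin 8) (Fin 8) (ZMod 3)) : toMat (code M) = M := by
  have hb : ∀ l < 64, (if h : l < 64 then (M ⟨l / 8, by omega⟩ ⟨l % 8, by omega⟩).val else 0) < 2 ^ 7 :=
    fun l hl => lt_trans (code_lt M l hl) (by norm_num)
  ext i j
  unfold toMat code
  have hl : 8 * (i : ℕ) + j < 64 := by omega
  rw [dg_E hb hl, dif_pos hl]
  have h1 : (8 * (i : ℕ) + j) / 8 = i := by omega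
  have h2 : (8 * (i : ℕ) + j) % 8 = j := by omega
  have h3 : (⟨(8 * (i : ℕ) + j) / 8, by omega⟩ : Fin 8) = i := Fin.ext h1
  have h4 : (⟨(8 * (i : ℕ) + j) % 8, by omega⟩ : Fin 8) = j := Fin.ext h2
  rw [h3, h4, ZMod.natCast_zmod_val]

theorem code_toMat {X : ℕ} (hX : Ok X) : code (toMat X) = X :=
  (ok_code _).inj hX (toMat_code _)

theorem code_one : code 1 = one := by rw [← toMat_one, code_toMat ok_one]

theorem code_mul (M N : Matrix (Fin 8) (Fin 8) (ZMod 3)) : code (M * N) = mul (code M) (code N) := by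
  apply (ok_code _).inj ((ok_code M).mul (ok_code N))
  rw [toMat_code, toMat_mul (ok_code M) (ok_code N), toMat_code, toMat_code]

theorem code_inj : Function.Injective code := fun M N h => by
  rw [← toMat_code M, ← toMat_code N, h]

end Cfsg.Agent.ONModel.Mat8
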