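import Cfsg.Agent.ONModel.Bound
import Cfsg.Agent.ONModel.TabA
import Cfsg.Agent.ONModel.TabCa

/-!
# The model of the centraliser of an involution in a group of O'Nan type

`exists_mod`: a group `C` of order `161280` generated by `b, c, d, g` with `Bound.Rels a b c d f g` has a
multiplicative injective code (`Orb.Mod`) by packed `8 x 8` matrices over `ZMod 3`.
-/

set_option autoImplicit false

namespace Cfsg.Agent.ONModel.Model

open Cfsg.Agent.ONModel.Orb Cfsg.Agent.ONModel.Bound

/-- codes without generation and finiteness -/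
structure Pre {C : Type*} [Group C] (code : C → ℕ) (b c d g : C) : Prop where
  inj : Function.Injective code
  one : code 1 = Mat8.one
  mul : ∀ x y, code (x * y) = mulF (code x) (code y)
  cb : code b = cB
  cc : code c = cC
  cd : code d = cD
  cg : code g = cG

theorem pre {C : Type*} [Group C] {code : C → ℕ} {b c d g : C} (M : Mod code b c d g) :
    Pre code b c d g := ⟨M.inj, M.one, M.mul, M.cb, M.cc, M.cd, M.cg⟩

namespace Pre

variable {C : Type*} [Group C] {code : C → ℕ} {b c d g : C} (M : Pre code b c d g)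
include M

theorem bb : b * b = 1 := M.inj (by rw [M.mul, M.one, M.cb]; decide +kernel)
theorem ccm : c * c = 1 := M.inj (by rw [M.mul, M.one, M.cc]; decide +kernel)
theorem dd : d * d = 1 := M.inj (by rw [M.mul, M.one, M.cd]; decide +kernel)
theorem g4 : g * (g * g * g) = 1 := M.inj (by simp only [M.mul, M.one, M.cg]; decide +kernel)
theorem bi : b⁻¹ = b := inv_eq_of_mul_eq_one_right M.bb
theorem ci : c⁻¹ = c := inv_eq_of_mul_eq_one_right M.ccm
theorem di : d⁻¹ = d := inv_eq_of_mul_eq_one_right M.dd
theorem gi : g⁻¹ = g * g * g := inv_eq_of_mul_eq_one_right M.g4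

theorem ca : code ((c * g) ^ 4) = cA := by
  simp only [pow_succ, pow_zero, one_mul, M.mul, M.cc, M.cg]
  decide +kernel

theorem cf : code ((d * g) ^ 4) = cF := by
  simp only [pow_succ, pow_zero, one_mul, M.mul, M.cd, M.cg]
  decide +kernel

theorem ainv : ((c * g) ^ 4)⁻¹ = (c * g) ^ 4 :=
  inv_eq_of_mul_eq_one_right (M.inj (by rw [M.mul, M.one, M.ca]; decide +kernel))

/-- the relations hold -/
theorem rels : Rels ((c * g) ^ 4) b c d ((d * g) ^ 4) g := by
  obtain ⟨a, ha⟩ : ∃ a, a = (c * g) ^ 4 := ⟨_, rfl⟩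
  obtain ⟨f, hf⟩ : ∃ f, f = (d * g) ^ 4 := ⟨_, rfl⟩
  have ca : code a = cA := by rw [ha, M.ca]
  have cf : code f = cF := by rw [hf, M.cf]
  rw [← ha, ← hf]
  have K : ∀ x y : C, code x = code y → x = y := fun x y h => M.inj h
  refine ⟨⟨?_, ?_, ?_, ?_, ?_, ?_, ?_, ?_, ?_, ?_, ?_, ?_, ?_, ?_, ?_, ?_, ?_, ?_, ?_, ?_, ?_⟩,
    hf.symm, ha.symm⟩
  all_goals apply K
  all_goals
    simp only [M.gi, M.bi, M.ci, M.di, mul_inv_rev, pow_succ, pow_zero, one_mul, M.mul, M.one, M.cb,
      M.cc, M.cd, M.cg, ca, cf]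
    decide +kernel

end Pre

/-- the order of a group with a code -/
theorem card_eq {C : Type*} [Group C] {code : C → ℕ} {b c d g : C} (M : Mod code b c d g) :
    Nat.card C = 161280 := by
  have := M.fin
  have hP := pre M
  obtain ⟨a, ha⟩ : ∃ a, a = (c * g) ^ 4 := ⟨_, rfl⟩
  have ca : code a = cA := by rw [ha, hP.ca]
  have h1 : Nat.card C = 630 * Nat.card (Subgroup.centralizer {a}) :=
    M.card_eq TabCa.chk TabCa.tree TabCa.nd TabCa.last (ca.trans TabCa.zero.symm)
  have h2 : Nat.card M.sub = 256 := M.card_sub TabA.chk TabA.tree TabA.nd TabA.last TabA.zero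
  have h3 : M.sub ≤ Subgroup.centralizer {a} := by
    unfold Mod.sub
    rw [Subgroup.closure_le]
    intro x hx
    simp only [Set.mem_insert_iff, Set.mem_singleton_iff] at hx
    rw [SetLike.mem_coe, Subgroup.mem_centralizer_singleton_iff]
    apply M.inj
    rcases hx with rfl | rfl | rfl
    · rw [hP.mul, hP.mul, ca, M.cc]; decide +kernel
    · rw [hP.mul, hP.mul, ca, M.cd]; decide +kernel
    · rw [hP.mul, hP.mul, ca, M.cg]; decide +kernel
  have h4 : 256 ≤ Nat.card (Subgroup.centralizer {a}) := by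
    rw [← h2]
    exact Subgroup.card_le_of_le h3
  have h5 : Nat.card C ≤ 161280 := by
    have h6 := (card_le hP.rels).2
    have h7 : Subgroup.closure {(c * g) ^ 4, b, c, d, (d * g) ^ 4, g} = (⊤ : Subgroup C) := by
      rw [eq_top_iff, ← M.gen]
      apply Subgroup.closure_mono
      intro x hx
      simp only [Set.mem_insert_iff, Set.mem_singleton_iff] at hx ⊢
      tauto
    rw [h7, Subgroup.card_top] at h6
    exact h6
  omega

/-! ### the concrete group -/

/-- invertible matrices -/
abbrev V := (Matrix (Fin 8) (Fin 8) (ZMod 3))ˣ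

theorem okB' : Mat8.Ok cB := Mat8.okB_spec (by decide +kernel)
theorem okC' : Mat8.Ok cC := Mat8.okB_spec (by decide +kernel)
theorem okD' : Mat8.Ok cD := Mat8.okB_spec (by decide +kernel)
theorem okG' : Mat8.Ok cG := Mat8.okB_spec (by decide +kernel)
theorem okGi' : Mat8.Ok cGi := Mat8.okB_spec (by decide +kernel)

theorem mul_toMat {X Y : ℕ} (hX : Mat8.Ok X) (hY : Mat8.Ok Y) (h : Mat8.mul X Y = Mat8.one) :
    Mat8.toMat X * Mat8.toMat Y = 1 := by
  rw [← Mat8.toMat_mul hX hY, h, Mat8.toMat_one]

/-- the generator `b` -/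
def uB : V := ⟨Mat8.toMat cB, Mat8.toMat cB, mul_toMat okB' okB' (by decide +kernel),
  mul_toMat okB' okB' (by decide +kernel)⟩
/-- the generator `c` -/
def uC : V := ⟨Mat8.toMat cC, Mat8.toMat cC, mul_toMat okC' okC' (by decide +kernel),
  mul_toMat okC' okC' (by decide +kernel)⟩
/-- the generator `d` -/
def uD : V := ⟨Mat8.toMat cD, Mat8.toMat cD, mul_toMat okD' okD' (by decide +kernel),
  mul_toMat okD' okD' (by decide +kernel)⟩
/-- the generator `g` -/
def uG : V := ⟨Mat8.toMat cG, Mat8.toMat cGi, mul_toMat okG' okGi' (by decide +kernel),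
  mul_toMat okGi' okG' (by decide +kernel)⟩

/-- the code of an invertible matrix -/
noncomputable def vcode (u : V) : ℕ := Mat8.code u.1

theorem vcode_inj : Function.Injective vcode := fun _ _ h => Units.ext (Mat8.code_inj h)

theorem vcode_one : vcode 1 = Mat8.one := by
  rw [vcode, Units.val_one, Mat8.code_one]

theorem vcode_mul (x y : V) : vcode (x * y) = Mat8.mul (vcode x) (vcode y) := by
  rw [vcode, Units.val_mul, Mat8.code_mul, ← vcode, ← vcode]

theorem vcode_mulF (x y : V) : vcode (x * y) = mulF (vcode x) (vcode y) := by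
  rw [mulF_eq, vcode_mul]

theorem preV : Pre vcode uB uC uD uG where
  inj := vcode_inj
  one := vcode_one
  mul := vcode_mulF
  cb := Mat8.code_toMat okB'
  cc := Mat8.code_toMat okC'
  cd := Mat8.code_toMat okD'
  cg := Mat8.code_toMat okG'

/-- the concrete group -/
def K : Subgroup V := Subgroup.closure {uB, uC, uD, uG}

theorem bK : uB ∈ K := Subgroup.subset_closure (by simp)
theorem cK : uC ∈ K := Subgroup.subset_closure (by simp)
theorem dK : uD ∈ K := Subgroup.subset_closure (by simp)
theorem gK : uG ∈ K := Subgroup.subset_closure (by simp)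

theorem modK : Mod (fun x : K => vcode x) ⟨uB, bK⟩ ⟨uC, cK⟩ ⟨uD, dK⟩ ⟨uG, gK⟩ where
  inj := fun x y h => Subtype.ext (vcode_inj h)
  one := vcode_one
  mul := fun x y => vcode_mul x.1 y.1
  cb := Mat8.code_toMat okB'
  cc := Mat8.code_toMat okC'
  cd := Mat8.code_toMat okD'
  cg := Mat8.code_toMat okG'
  fin := by
    have : Finite V := inferInstance
    infer_instance
  gen := by
    have h := Subgroup.closure_closure_coe_preimage (k := ({uB, uC, uD, uG} : Set V))
    refine eq_top_iff.mpr (h.ge.trans (Subgroup.closure_mono ?_))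
    rintro ⟨x, hx⟩ hx'
    simp only [Set.mem_preimage, Set.mem_insert_iff, Set.mem_singleton_iff] at hx' ⊢
    rcases hx' with h | h | h | h
    · left; exact Subtype.ext h
    · right; left; exact Subtype.ext h
    · right; right; left; exact Subtype.ext h
    · right; right; right; exact Subtype.ext h

theorem card_K : Nat.card K = 161280 := card_eq modK

/-- the relations in a product -/
theorem rels_prod {G H : Type*} [Group G] [Group H] {a b c d f g : G} {a' b' c' d' f' g' : H}
    (h : Rels a b c d f g) (h' : Rels a' b' c' d' f' g') :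
    Rels (a, a') (b, b') (c, c') (d, d') (f, f') (g, g') := by
  refine ⟨⟨?_, ?_, ?_, ?_, ?_, ?_, ?_, ?_, ?_, ?_, ?_, ?_, ?_, ?_, ?_, ?_, ?_, ?_, ?_, ?_, ?_⟩, ?_, ?_⟩
  · exact Prod.ext h.aa h'.aa
  · exact Prod.ext h.bb h'.bb
  · exact Prod.ext h.cc h'.cc
  · exact Prod.ext h.dd h'.dd
  · exact Prod.ext h.ff h'.ff
  · exact Prod.ext h.ab h'.ab
  · exact Prod.ext h.bc h'.bc
  · exact Prod.ext h.cd h'.cd
  · exact Prod.ext h.ac h'.ac
  · exact Prod.ext h.ad h'.ad
  · exact Prod.ext h.af h'.af
  · exact Prod.ext h.bd h'.bd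
  · exact Prod.ext h.bf h'.bf
  · exact Prod.ext h.cf h'.cf
  · exact Prod.ext h.df h'.df
  · exact Prod.ext h.gg h'.gg
  · exact Prod.ext h.cd4 h'.cd4
  · exact Prod.ext h.cg h'.cg
  · exact Prod.ext h.dg h'.dg
  · exact Prod.ext h.five h'.five
  · exact Prod.ext h.gb h'.gb
  · exact Prod.ext h.dg4 h'.dg4
  · exact Prod.ext h.cg4 h'.cg4

/-- `a` and `f` are redundant generators. -/
theorem closure_six {G : Type*} [Group G] {a b c d f g : G} (h : Rels a b c d f g) :
    Subgroup.closure {a, b, c, d, f, g} = Subgroup.closure {b, c, d, g} := by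
  have hb : b ∈ Subgroup.closure {b, c, d, g} := Subgroup.subset_closure (by simp)
  have hc : c ∈ Subgroup.closure {b, c, d, g} := Subgroup.subset_closure (by simp)
  have hd : d ∈ Subgroup.closure {b, c, d, g} := Subgroup.subset_closure (by simp)
  have hg : g ∈ Subgroup.closure {b, c, d, g} := Subgroup.subset_closure (by simp)
  apply le_antisymm
  · rw [Subgroup.closure_le]
    intro x hx
    simp only [Set.mem_insert_iff, Set.mem_singleton_iff] at hx
    rcases hx with rfl | rfl | rfl | rfl | rfl | rfl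
    · have := h.cg4
      rw [← this]
      exact Subgroup.pow_mem _ (Subgroup.mul_mem _ hc hg) 4
    · exact hb
    · exact hc
    · exact hd
    · have := h.dg4
      rw [← this]
      exact Subgroup.pow_mem _ (Subgroup.mul_mem _ hd hg) 4
    · exact hg
  · apply Subgroup.closure_mono
    intro x hx
    simp only [Set.mem_insert_iff, Set.mem_singleton_iff] at hx ⊢
    tauto

/-- A group of order `161280` generated by `b, c, d, g` with the relations has a code. -/
theorem exists_mod {C : Type*} [Group C] {a b c d f g : C} (h : Rels a b c d f g)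
    (hgen : Subgroup.closure {b, c, d, g} = ⊤) (hcard : Nat.card C = 161280) :
    ∃ code : C → ℕ, Mod code b c d g := by
  have hfin : Finite C := Nat.finite_of_card_ne_zero (by rw [hcard]; norm_num)
  have hW := rels_prod h preV.rels
  obtain ⟨D, hD⟩ : ∃ D : Subgroup (C × V), D = Subgroup.closure {(b, uB), (c, uC), (d, uD), (g, uG)} :=
    ⟨_, rfl⟩
  have hDf : Finite D ∧ Nat.card D ≤ 161280 := by
    have := card_le hW
    rwa [closure_six hW, ← hD] at this
  have hDfin := hDf.1
  have mb : (b, uB) ∈ D := by rw [hD]; exact Subgroup.subset_closure (by simp)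
  have mc : (c, uC) ∈ D := by rw [hD]; exact Subgroup.subset_closure (by simp)
  have md : (d, uD) ∈ D := by rw [hD]; exact Subgroup.subset_closure (by simp)
  have mg : (g, uG) ∈ D := by rw [hD]; exact Subgroup.subset_closure (by simp)
  -- the first projection
  have h1 : Function.Surjective ((MonoidHom.fst C V).comp D.subtype) := by
    rw [← MonoidHom.range_eq_top, eq_top_iff, ← hgen, Subgroup.closure_le]
    intro x hx
    simp only [Set.mem_insert_iff, Set.mem_singleton_iff] at hx
    rcases hx with rfl | rfl | rfl | rfl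
    · exact ⟨⟨_, mb⟩, rfl⟩
    · exact ⟨⟨_, mc⟩, rfl⟩
    · exact ⟨⟨_, md⟩, rfl⟩
    · exact ⟨⟨_, mg⟩, rfl⟩
  have b1 : Function.Bijective ((MonoidHom.fst C V).comp D.subtype) :=
    h1.bijective_of_nat_card_le (by rw [hcard]; exact hDf.2)
  -- the second projection
  have hK : ∀ x : D, x.1.2 ∈ K := by
    rintro ⟨x, hx⟩
    have : D ≤ K.comap (MonoidHom.snd C V) := by
      rw [hD, Subgroup.closure_le]
      intro y hy
      simp only [Set.mem_insert_iff, Set.mem_singleton_iff] at hy
      rcases hy with rfl | rfl | rfl | rfl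
      · exact bK
      · exact cK
      · exact dK
      · exact gK
    exact this hx
  have hKfin : Finite K := Nat.finite_of_card_ne_zero (by rw [card_K]; norm_num)
  have h2 : Function.Surjective (fun x : D => (⟨x.1.2, hK x⟩ : K)) := by
    have : K ≤ D.map (MonoidHom.snd C V) := by
      unfold K
      rw [Subgroup.closure_le]
      intro y hy
      simp only [Set.mem_insert_iff, Set.mem_singleton_iff] at hy
      rcases hy with rfl | rfl | rfl | rfl
      · exact ⟨_, mb, rfl⟩
      · exact ⟨_, mc, rfl⟩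
      · exact ⟨_, md, rfl⟩
      · exact ⟨_, mg, rfl⟩
    rintro ⟨y, hy⟩
    obtain ⟨x, hx, rfl⟩ := this hy
    exact ⟨⟨x, hx⟩, rfl⟩
  have b2 : Function.Bijective (fun x : D => (⟨x.1.2, hK x⟩ : K)) :=
    h2.bijective_of_nat_card_le (by rw [card_K]; exact hDf.2)
  let e : D ≃* C := MulEquiv.ofBijective _ b1
  have he : ∀ x : D, e x = x.1.1 := fun x => rfl
  refine ⟨fun x => vcode (e.symm x).1.2, ?_, ?_, ?_, ?_, ?_, ?_, ?_, hfin, hgen⟩
  · intro x y hxy
    have h3 := vcode_inj hxy
    have h4 : e.symm x = e.symm y := b2.1 (Subtype.ext h3)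
    exact e.symm.injective h4
  · show vcode (e.symm 1).1.2 = _
    rw [map_one]
    exact vcode_one
  · intro x y
    show vcode (e.symm (x * y)).1.2 = _
    rw [map_mul]
    exact vcode_mul _ _
  · show vcode (e.symm b).1.2 = _
    rw [show e.symm b = ⟨_, mb⟩ from e.symm_apply_eq.mpr rfl]
    exact preV.cb
  · show vcode (e.symm c).1.2 = _
    rw [show e.symm c = ⟨_, mc⟩ from e.symm_apply_eq.mpr rfl]
    exact preV.cc
  · show vcode (e.symm d).1.2 = _
    rw [show e.symm d = ⟨_, md⟩ from e.symm_apply_eq.mpr rfl]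
    exact preV.cd
  · show vcode (e.symm g).1.2 = _
    rw [show e.symm g = ⟨_, mg⟩ from e.symm_apply_eq.mpr rfl]
    exact preV.cg

end Cfsg.Agent.ONModel.Model
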