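import Cfsg.Agent.ONModel.Mat8

/-!
# A group with a computable injective code by packed `8 x 8` matrices over `ZMod 3`; orbit tables

`Mod code b c d g`: `code : C → ℕ` is injective and multiplicative (`Mat8.mul`), with prescribed codes of
the generators `b`, `c`, `d`, `g` of `C`.
-/

set_option autoImplicit false

namespace Cfsg.Agent.ONModel.Orb

open Cfsg.Agent.Lib.PackMat Cfsg.Agent.ONModel.Mat8

/-- code of `a` -/
def cA : ℕ := 0x400000000000000080000000000000008000000000000001000000000000000400000000000000080000000000000008000000000000001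

/-- code of `b` -/
def cB : ℕ := 0x400001000010100081000000102000800000081020200000020008200000010400101000010000081020408101040810002081020208002

/-- code of `c` -/
def cC : ℕ := 0x20000000000000004000000000000000800000000000000102000000000000000400000000000000080000000000000010000000

/-- code of `d` -/
def cD : ℕ := 0x400000000000200000000000200000000000100000000000040000000000020000000000000000000000008000000000000002

/-- code of `f` -/
def cF : ℕ := 0x400000000000000080000000000000010000000000000002000000000000000400000000000000080000000000000010000000000000002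

/-- code of `g` -/
def cG : ℕ := 0x4000000000002000000000000000000000001000000000000000100000000400000000000000040000000080000000000000020000000

/-- code of `g⁻¹` -/
def cGi : ℕ := 0x4000000000002000000000000000000000000800000000000000200000000400000000000000040000000100000000000000010000000

/-- entry number `i` of a table of codes -/
noncomputable def get (T i : ℕ) : ℕ :=
  Nat.mod (Nat.shiftRight T (Nat.mul 448 i)) 0x10000000000000000000000000000000000000000000000000000000000000000000000000000000000000000000000000000000000000000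

/-- entry number `i` of a table of indices -/
noncomputable def sg (T i : ℕ) : ℕ := Nat.mod (Nat.shiftRight T (Nat.mul 12 i)) 4096

/-- product, evaluating the arguments first -/
noncomputable def mulF (A B : ℕ) : ℕ := force A fun A => force B fun B => Mat8.mul A B

theorem mulF_eq (A B : ℕ) : mulF A B = Mat8.mul A B := rfl

/-- conjugate of `X` by `S`, with inverse `Si` -/
noncomputable def cj (Si S X : ℕ) : ℕ := force (Mat8.mul Si X) fun Y => Mat8.mul Y S

theorem cj_eq (Si S X : ℕ) : cj Si S X = Mat8.mul (Mat8.mul Si X) S := rfl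

/-- codes of the letters `b, c, d, g` -/
def lt : ℕ → ℕ
  | 0 => cB
  | 1 => cC
  | 2 => cD
  | _ => cG

/-- codes of the inverses of the letters -/
def lti : ℕ → ℕ
  | 0 => cB
  | 1 => cC
  | 2 => cD
  | _ => cGi

/-- one check of a conjugation table -/
noncomputable def okC (n T s i Si S X : ℕ) : Bool :=
  force (sg s i) fun j => bif Nat.blt j n then Nat.beq (cj Si S X) (get T j) else false

/-- check of a conjugation table -/
noncomputable def chkC (n T s0 s1 s2 s3 : ℕ) : Bool :=
  allBelow (fun i => force (get T i) fun X =>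
    bif okC n T s0 i cB cB X then
      bif okC n T s1 i cC cC X then
        bif okC n T s2 i cD cD X then okC n T s3 i cGi cG X else false
      else false
    else false) n

/-- one check of a right multiplication table -/
noncomputable def okR (n T s i S X : ℕ) : Bool :=
  force (sg s i) fun j => bif Nat.blt j n then Nat.beq (Mat8.mul X S) (get T j) else false

/-- check of a right multiplication table for `c, d, g` -/
noncomputable def chkR (n T s1 s2 s3 : ℕ) : Bool :=
  allBelow (fun i => force (get T i) fun X =>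
      bif okR n T s1 i cC X then
        bif okR n T s2 i cD X then okR n T s3 i cG X else false
      else false) n

/-- check of the spanning tree -/
noncomputable def chkT (n par s0 s1 s2 s3 : ℕ) : Bool :=
  allBelow (fun i => bif Nat.beq i 0 then true else
    force (sg par i) fun p => bif Nat.blt p i then
      bif Nat.beq (sg s0 p) i then true else
      bif Nat.beq (sg s1 p) i then true else
      bif Nat.beq (sg s2 p) i then true else Nat.beq (sg s3 p) i
    else false) n

/-- check that the table has no repeated entries; `P` is the sorting permutation -/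
noncomputable def chkN (n T P : ℕ) : Bool :=
  allBelow (fun i => force (sg P i) fun x => bif Nat.blt x (Nat.succ n) then
    Nat.blt (get T x) (get T (sg P (Nat.succ i))) else false) n

/-! ### semantics -/

theorem force_def {α : Type} (e : ℕ) (k : ℕ → α) : force e k = k e := rfl

theorem blt_true {x y : ℕ} (h : Nat.blt x y = true) : x < y := Nat.le_of_ble_eq_true h

theorem okC_spec {n T s i Si S X : ℕ} (h : okC n T s i Si S X = true) :
    sg s i < n ∧ Mat8.mul (Mat8.mul Si X) S = get T (sg s i) := by
  unfold okC at h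
  rw [force_def] at h
  cases h1 : Nat.blt (sg s i) n with
  | false => rw [h1, cond_false] at h; exact absurd h Bool.false_ne_true
  | true =>
    rw [h1, cond_true] at h
    exact ⟨blt_true h1, Nat.eq_of_beq_eq_true h⟩

theorem okR_spec {n T s i S X : ℕ} (h : okR n T s i S X = true) :
    sg s i < n ∧ Mat8.mul X S = get T (sg s i) := by
  unfold okR at h
  rw [force_def] at h
  cases h1 : Nat.blt (sg s i) n with
  | false => rw [h1, cond_false] at h; exact absurd h Bool.false_ne_true
  | true =>
    rw [h1, cond_true] at h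
    exact ⟨blt_true h1, Nat.eq_of_beq_eq_true h⟩

theorem cond_and {p q : Bool} (h : (bif p then q else false) = true) : p = true ∧ q = true := by
  cases p <;> cases q <;> simp_all

theorem cond_or {p q : Bool} (h : (bif p then true else q) = true) : p = true ∨ q = true := by
  cases p <;> cases q <;> simp_all

/-- the table number of a letter -/
def st (s0 s1 s2 s3 : ℕ) : ℕ → ℕ
  | 0 => s0
  | 1 => s1
  | 2 => s2
  | _ => s3

theorem chkC_spec {n T s0 s1 s2 s3 : ℕ} (h : chkC n T s0 s1 s2 s3 = true) (k : ℕ) (hk : k < 4)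
    (i : ℕ) (hi : i < n) : sg (st s0 s1 s2 s3 k) i < n ∧
      Mat8.mul (Mat8.mul (lti k) (get T i)) (lt k) = get T (sg (st s0 s1 s2 s3 k) i) := by
  have h1 := allBelow_spec h i hi
  rw [force_def] at h1
  obtain ⟨a0, h1⟩ := cond_and h1
  obtain ⟨a1, h1⟩ := cond_and h1
  obtain ⟨a2, a3⟩ := cond_and h1
  interval_cases k
  · exact okC_spec a0
  · exact okC_spec a1
  · exact okC_spec a2
  · exact okC_spec a3

theorem chkR_spec {n T s1 s2 s3 : ℕ} (h : chkR n T s1 s2 s3 = true) (k : ℕ) (hk0 : 0 < k) (hk : k < 4)
    (i : ℕ) (hi : i < n) : sg (st 0 s1 s2 s3 k) i < n ∧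
      Mat8.mul (get T i) (lt k) = get T (sg (st 0 s1 s2 s3 k) i) := by
  have h1 := allBelow_spec h i hi
  rw [force_def] at h1
  obtain ⟨a1, h1⟩ := cond_and h1
  obtain ⟨a2, a3⟩ := cond_and h1
  interval_cases k
  · exact okR_spec a1
  · exact okR_spec a2
  · exact okR_spec a3

theorem chkT_spec {n par s0 s1 s2 s3 : ℕ} (h : chkT n par s0 s1 s2 s3 = true)
    (i : ℕ) (hi : i < n) (hi0 : i ≠ 0) : ∃ p < i, ∃ k < 4, sg (st s0 s1 s2 s3 k) p = i := by
  have h1 := allBelow_spec h i hi
  have h2 : Nat.beq i 0 = false := by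
    cases i with
    | zero => exact absurd rfl hi0
    | succ i => rfl
  rw [h2, cond_false, force_def] at h1
  obtain ⟨h3, h1⟩ := cond_and h1
  refine ⟨sg par i, blt_true h3, ?_⟩
  rcases cond_or h1 with h4 | h1
  · exact ⟨0, by norm_num, Nat.eq_of_beq_eq_true h4⟩
  rcases cond_or h1 with h4 | h1
  · exact ⟨1, by norm_num, Nat.eq_of_beq_eq_true h4⟩
  rcases cond_or h1 with h4 | h1
  · exact ⟨2, by norm_num, Nat.eq_of_beq_eq_true h4⟩
  · exact ⟨3, by norm_num, Nat.eq_of_beq_eq_true h1⟩

/-- A table with a sorting permutation has no repeated entries. -/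
theorem nodup {n T P : ℕ} (h : chkN n T P = true) (hP : sg P n ≤ n) :
    ∀ i ≤ n, ∀ j ≤ n, get T i = get T j → i = j := by
  have hlt : ∀ i < n, sg P i ≤ n ∧ get T (sg P i) < get T (sg P (i + 1)) := by
    intro i hi
    have h1 := allBelow_spec h i hi
    rw [force_def] at h1
    obtain ⟨h2, h3⟩ := cond_and h1
    exact ⟨Nat.lt_succ_iff.mp (blt_true h2), blt_true h3⟩
  have hle : ∀ i ≤ n, sg P i ≤ n := by
    intro i hi
    rcases hi.lt_or_eq with h1 | rfl
    · exact (hlt i h1).1
    · exact hP
  have hmono : ∀ i j, i < j → j ≤ n → get T (sg P i) < get T (sg P j) := by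
    intro i j hij
    induction j with
    | zero => exact absurd hij (Nat.not_lt_zero _)
    | succ j ih =>
      intro hj
      have h1 := (hlt j (by omega)).2
      rcases Nat.lt_succ_iff_lt_or_eq.mp hij with h2 | rfl
      · exact (ih h2 (by omega)).trans h1
      · exact h1
  have hinj : Function.Injective (fun i : Fin (n + 1) => (⟨sg P i, Nat.lt_succ_iff.mpr
      (hle i (Nat.lt_succ_iff.mp i.2))⟩ : Fin (n + 1))) := by
    intro i j hij
    have h1 : sg P i = sg P j := congrArg Fin.val hij
    rcases lt_trichotomy (i : ℕ) j with h2 | h2 | h2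
    · exact absurd (congrArg (get T) h1) (hmono i j h2 (Nat.lt_succ_iff.mp j.2)).ne
    · exact Fin.ext h2
    · exact absurd (congrArg (get T) h1) (hmono j i h2 (Nat.lt_succ_iff.mp i.2)).ne'
  have hsurj := Finite.surjective_of_injective hinj
  intro i hi j hj hij
  obtain ⟨i', hi'⟩ := hsurj ⟨i, Nat.lt_succ_iff.mpr hi⟩
  obtain ⟨j', hj'⟩ := hsurj ⟨j, Nat.lt_succ_iff.mpr hj⟩
  have e1 : sg P i' = i := congrArg Fin.val hi'
  have e2 : sg P j' = j := congrArg Fin.val hj'
  rcases lt_trichotomy (i' : ℕ) j' with h2 | h2 | h2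
  · have := hmono i' j' h2 (Nat.lt_succ_iff.mp j'.2)
    rw [e1, e2, hij] at this
    exact absurd this (lt_irrefl _)
  · rw [← e1, ← e2, h2]
  · have := hmono j' i' h2 (Nat.lt_succ_iff.mp i'.2)
    rw [e1, e2, hij] at this
    exact absurd this (lt_irrefl _)

/-! ### groups with a code -/

/-- `C` is generated by `b, c, d, g`, with a multiplicative injective code. -/
structure Mod {C : Type*} [Group C] (code : C → ℕ) (b c d g : C) : Prop where
  inj : Function.Injective code
  one : code 1 = Mat8.one
  mul : ∀ x y, code (x * y) = Mat8.mul (code x) (code y)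
  cb : code b = cB
  cc : code c = cC
  cd : code d = cD
  cg : code g = cG
  fin : Finite C
  gen : Subgroup.closure {b, c, d, g} = ⊤

namespace Mod

variable {C : Type*} [Group C] {code : C → ℕ} {b c d g : C} (M : Mod code b c d g)
include M

theorem bb : b * b = 1 := M.inj (by rw [M.mul, M.one, M.cb]; decide +kernel)
theorem ccm : c * c = 1 := M.inj (by rw [M.mul, M.one, M.cc]; decide +kernel)
theorem dd : d * d = 1 := M.inj (by rw [M.mul, M.one, M.cd]; decide +kernel)
theorem g4 : g * (g * g * g) = 1 := M.inj (by simp only [M.mul, M.one, M.cg]; decide +kernel)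

theorem bi : b⁻¹ = b := inv_eq_of_mul_eq_one_right M.bb
theorem ci : c⁻¹ = c := inv_eq_of_mul_eq_one_right M.ccm
theorem di : d⁻¹ = d := inv_eq_of_mul_eq_one_right M.dd
theorem gi : g⁻¹ = g * g * g := inv_eq_of_mul_eq_one_right M.g4
theorem cgi : code g⁻¹ = cGi := by
  rw [M.gi]; simp only [M.mul, M.cg]; decide +kernel

/-- the letters as group elements -/
def letter (_M : Mod code b c d g) : ℕ → C
  | 0 => b
  | 1 => c
  | 2 => d
  | _ => g

theorem code_letter (k : ℕ) (hk : k < 4) : code (M.letter k) = Orb.lt k := by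
  interval_cases k
  · exact M.cb
  · exact M.cc
  · exact M.cd
  · exact M.cg

theorem code_letter_inv (k : ℕ) (hk : k < 4) : code (M.letter k)⁻¹ = lti k := by
  interval_cases k
  · exact (congrArg code M.bi).trans M.cb
  · exact (congrArg code M.ci).trans M.cc
  · exact (congrArg code M.di).trans M.cd
  · exact M.cgi

/-- Induction over the group: a property of group elements stable under products that holds for the
letters holds everywhere. -/
theorem induct {P : C → Prop} (hl : ∀ k < 4, P (M.letter k)) (h1 : P 1)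
    (hm : ∀ x y, P x → P y → P (x * y)) : ∀ x, P x := by
  have := M.fin
  intro x
  have hx : x ∈ Subgroup.closure {b, c, d, g} := by rw [M.gen]; trivial
  refine Subgroup.closure_induction (p := fun x _ => P x) ?_ h1 (fun x y _ _ => hm x y) ?_ hx
  · intro y hy
    simp only [Set.mem_insert_iff, Set.mem_singleton_iff] at hy
    rcases hy with rfl | rfl | rfl | rfl
    · exact hl 0 (by norm_num)
    · exact hl 1 (by norm_num)
    · exact hl 2 (by norm_num)
    · exact hl 3 (by norm_num)
  · intro y _ hy
    have hpow : ∀ n : ℕ, P (y ^ n) := by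
      intro n
      induction n with
      | zero => rw [pow_zero]; exact h1
      | succ n ih => rw [pow_succ]; exact hm _ _ ih hy
    have h2 : y⁻¹ = y ^ (orderOf y - 1) := by
      have h3 : 0 < orderOf y := orderOf_pos y
      have h4 : y ^ (orderOf y - 1) * y = 1 := by
        rw [← pow_succ, Nat.sub_add_cancel h3, pow_orderOf_eq_one]
      exact (eq_inv_of_mul_eq_one_left h4).symm
    rw [h2]
    exact hpow _

/-- Conjugates of elements in the table are in the table. -/
theorem conj_closed {n T s0 s1 s2 s3 : ℕ} (h : chkC n T s0 s1 s2 s3 = true) (y : C) :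
    ∀ x, (∃ i < n, code x = get T i) → ∃ i < n, code (y⁻¹ * x * y) = get T i := by
  refine M.induct (P := fun y => ∀ x, (∃ i < n, code x = get T i) →
    ∃ i < n, code (y⁻¹ * x * y) = get T i) ?_ ?_ ?_ y
  · rintro k hk x ⟨i, hi, hx⟩
    obtain ⟨h1, h2⟩ := chkC_spec h k hk i hi
    refine ⟨_, h1, ?_⟩
    rw [M.mul, M.mul, M.code_letter k hk, M.code_letter_inv k hk, hx, h2]
  · intro x hx
    simpa using hx
  · intro y z hy hz x hx
    have h1 := hz _ (hy x hx)
    have h2 : (y * z)⁻¹ * x * (y * z) = z⁻¹ * (y⁻¹ * x * y) * z := by group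
    rw [h2]
    exact h1

/-- Every entry of the table is a conjugate of the first one. -/
theorem conj_reach {n T s0 s1 s2 s3 par : ℕ} (h : chkC n T s0 s1 s2 s3 = true)
    (hT : chkT n par s0 s1 s2 s3 = true) {x : C} (hx : code x = get T 0) :
    ∀ i < n, ∃ y : C, code (y⁻¹ * x * y) = get T i := by
  intro i
  induction i using Nat.strong_induction_on with
  | _ i ih =>
    intro hi
    by_cases hi0 : i = 0
    · exact ⟨1, by rw [hi0, inv_one, one_mul, mul_one, hx]⟩
    · obtain ⟨p, hp, k, hk, hpk⟩ := chkT_spec hT i hi hi0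
      obtain ⟨y, hy⟩ := ih p hp (hp.trans hi)
      refine ⟨y * M.letter k, ?_⟩
      have h2 : (y * M.letter k)⁻¹ * x * (y * M.letter k) =
        (M.letter k)⁻¹ * (y⁻¹ * x * y) * M.letter k := by group
      rw [h2, M.mul, M.mul, M.code_letter k hk, M.code_letter_inv k hk, hy,
        (chkC_spec h k hk p (hp.trans hi)).2, hpk]

/-- The class of an element is given by the table. -/
theorem isConj_iff {n T s0 s1 s2 s3 par : ℕ} (h : chkC n T s0 s1 s2 s3 = true)
    (hT : chkT n par s0 s1 s2 s3 = true) (hn : 0 < n) {x : C} (hx : code x = get T 0) (z : C) :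
    (∃ y : C, y⁻¹ * x * y = z) ↔ ∃ i < n, code z = get T i := by
  constructor
  · rintro ⟨y, rfl⟩
    exact M.conj_closed h y x ⟨0, hn, hx⟩
  · rintro ⟨i, hi, hz⟩
    obtain ⟨y, hy⟩ := M.conj_reach h hT hx i hi
    exact ⟨y, M.inj (hy.trans hz.symm)⟩

/-- `|C| = |class| |centraliser|` with the table. -/
theorem card_eq {n T s0 s1 s2 s3 par P : ℕ} (h : chkC (n + 1) T s0 s1 s2 s3 = true)
    (hT : chkT (n + 1) par s0 s1 s2 s3 = true) (hN : chkN n T P = true) (hP : sg P n ≤ n)
    {x : C} (hx : code x = get T 0) :
    Nat.card C = (n + 1) * Nat.card (Subgroup.centralizer {x}) := by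
  have := M.fin
  have hcls := M.isConj_iff h hT (Nat.succ_pos n) hx
  have hnd := nodup hN hP
  have h1 : Nat.card (MulAction.orbit (ConjAct C) x) * Nat.card (MulAction.stabilizer (ConjAct C) x) =
      Nat.card (ConjAct C) := by
    rw [← Nat.card_prod]
    exact Nat.card_congr (MulAction.orbitProdStabilizerEquivGroup (ConjAct C) x)
  have h2 : Nat.card (MulAction.stabilizer (ConjAct C) x) = Nat.card (Subgroup.centralizer {x}) := by
    refine Nat.card_congr ⟨fun y => ⟨ConjAct.ofConjAct y.1, ?_⟩, fun y => ⟨ConjAct.toConjAct y.1, ?_⟩,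
      fun y => rfl, fun y => rfl⟩
    · have hy := y.2
      rw [MulAction.mem_stabilizer_iff, ConjAct.smul_def] at hy
      rw [Subgroup.mem_centralizer_singleton_iff]
      exact mul_inv_eq_iff_eq_mul.mp hy
    · have hy := y.2
      rw [Subgroup.mem_centralizer_singleton_iff] at hy
      rw [MulAction.mem_stabilizer_iff, ConjAct.smul_def, ConjAct.ofConjAct_toConjAct]
      exact mul_inv_eq_iff_eq_mul.mpr hy
  have h3 : Nat.card (MulAction.orbit (ConjAct C) x) = n + 1 := by
    have hf : ∀ i : Fin (n + 1), ∃ z : C, (∃ y : C, y⁻¹ * x * y = z) ∧ code z = get T i := by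
      intro i
      obtain ⟨y, hy⟩ := M.conj_reach h hT hx i i.2
      exact ⟨_, ⟨y, rfl⟩, hy⟩
    choose f hf1 hf2 using hf
    have horb : ∀ z : C, z ∈ MulAction.orbit (ConjAct C) x ↔ ∃ y : C, y⁻¹ * x * y = z := by
      intro z
      rw [MulAction.mem_orbit_iff]
      constructor
      · rintro ⟨y, rfl⟩
        exact ⟨(ConjAct.ofConjAct y)⁻¹, by rw [ConjAct.smul_def, inv_inv]⟩
      · rintro ⟨y, rfl⟩
        exact ⟨ConjAct.toConjAct y⁻¹, by rw [ConjAct.smul_def, ConjAct.ofConjAct_toConjAct, inv_inv]⟩
    have e : Fin (n + 1) ≃ MulAction.orbit (ConjAct C) x := by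
      refine Equiv.ofBijective (fun i => ⟨f i, (horb _).mpr (hf1 i)⟩) ⟨?_, ?_⟩
      · intro i j hij
        have h4 : f i = f j := congrArg Subtype.val hij
        have h5 : get T i = get T j := by rw [← hf2, ← hf2, h4]
        exact Fin.ext (hnd i (Nat.lt_succ_iff.mp i.2) j (Nat.lt_succ_iff.mp j.2) h5)
      · rintro ⟨z, hz⟩
        obtain ⟨i, hi, hzi⟩ := (hcls z).mp ((horb z).mp hz)
        exact ⟨⟨i, hi⟩, Subtype.ext (M.inj (by rw [hf2, hzi]))⟩
    rw [← Nat.card_congr e, Nat.card_fin]
  rw [h3, h2] at h1
  exact h1.symm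

/-- the subgroup generated by `c`, `d`, `g` -/
def sub (_M : Mod code b c d g) : Subgroup C := Subgroup.closure {c, d, g}

theorem letter_mem (k : ℕ) (hk0 : 0 < k) (hk : k < 4) : M.letter k ∈ M.sub := by
  interval_cases k
  · exact Subgroup.subset_closure (by simp [letter])
  · exact Subgroup.subset_closure (by simp [letter])
  · exact Subgroup.subset_closure (by simp [letter])

/-- induction over the subgroup generated by `c, d, g` -/
theorem inductA {P : C → Prop} (hl : ∀ k, 0 < k → k < 4 → P (M.letter k)) (h1 : P 1)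
    (hm : ∀ x y, P x → P y → P (x * y)) : ∀ x ∈ M.sub, P x := by
  have := M.fin
  intro x hx
  refine Subgroup.closure_induction (p := fun x _ => P x) ?_ h1 (fun x y _ _ => hm x y) ?_ hx
  · intro y hy
    simp only [Set.mem_insert_iff, Set.mem_singleton_iff] at hy
    rcases hy with rfl | rfl | rfl
    · exact hl 1 (by norm_num) (by norm_num)
    · exact hl 2 (by norm_num) (by norm_num)
    · exact hl 3 (by norm_num) (by norm_num)
  · intro y _ hy
    have hpow : ∀ n : ℕ, P (y ^ n) := by
      intro n
      induction n with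
      | zero => rw [pow_zero]; exact h1
      | succ n ih => rw [pow_succ]; exact hm _ _ ih hy
    have h2 : y⁻¹ = y ^ (orderOf y - 1) := by
      have h3 : 0 < orderOf y := orderOf_pos y
      have h4 : y ^ (orderOf y - 1) * y = 1 := by
        rw [← pow_succ, Nat.sub_add_cancel h3, pow_orderOf_eq_one]
      exact (eq_inv_of_mul_eq_one_left h4).symm
    rw [h2]
    exact hpow _

theorem mem_table {n T s1 s2 s3 : ℕ} (h : chkR n T s1 s2 s3 = true) (hn : 0 < n)
    (h0 : get T 0 = Mat8.one) : ∀ y ∈ M.sub, ∃ i < n, code y = get T i := by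
  have key : ∀ y ∈ M.sub, ∀ x, (∃ i < n, code x = get T i) → ∃ i < n, code (x * y) = get T i := by
    apply M.inductA (P := fun y => ∀ x, (∃ i < n, code x = get T i) → ∃ i < n, code (x * y) = get T i)
    · rintro k hk0 hk x ⟨i, hi, hx⟩
      obtain ⟨h1, h2⟩ := chkR_spec h k hk0 hk i hi
      exact ⟨_, h1, by rw [M.mul, M.code_letter k hk, hx, h2]⟩
    · intro x hx
      simpa using hx
    · intro y z hy hz x hx
      rw [← mul_assoc]
      exact hz _ (hy x hx)
  intro y hy
  have := key y hy 1 ⟨0, hn, by rw [M.one, h0]⟩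
  rwa [one_mul] at this

theorem table_mem {n T s1 s2 s3 par : ℕ} (h : chkR n T s1 s2 s3 = true)
    (hT : chkT n par s1 s1 s2 s3 = true) (h0 : get T 0 = Mat8.one) :
    ∀ i < n, ∃ y ∈ M.sub, code y = get T i := by
  intro i
  induction i using Nat.strong_induction_on with
  | _ i ih =>
    intro hi
    by_cases hi0 : i = 0
    · exact ⟨1, M.sub.one_mem, by rw [hi0, M.one, h0]⟩
    · obtain ⟨p, hp, k, hk, hpk⟩ := chkT_spec hT i hi hi0
      obtain ⟨y, hyA, hy⟩ := ih p hp (hp.trans hi)
      have key : ∀ k, 0 < k → k < 4 → sg (st 0 s1 s2 s3 k) p = i → ∃ y ∈ M.sub, code y = get T i := by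
        intro k hk0 hk hpk
        exact ⟨y * M.letter k, M.sub.mul_mem hyA (M.letter_mem k hk0 hk), by
          rw [M.mul, M.code_letter k hk, hy, (chkR_spec h k hk0 hk p (hp.trans hi)).2, hpk]⟩
      interval_cases k
      · exact key 1 (by norm_num) (by norm_num) hpk
      · exact key 1 (by norm_num) (by norm_num) hpk
      · exact key 2 (by norm_num) (by norm_num) hpk
      · exact key 3 (by norm_num) (by norm_num) hpk

theorem card_sub {n T s1 s2 s3 par P : ℕ} (h : chkR (n + 1) T s1 s2 s3 = true)
    (hT : chkT (n + 1) par s1 s1 s2 s3 = true) (hN : chkN n T P = true) (hP : sg P n ≤ n)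
    (h0 : get T 0 = Mat8.one) : Nat.card M.sub = n + 1 := by
  have hnd := nodup hN hP
  have hf := M.table_mem h hT h0
  choose f hf1 hf2 using hf
  have e : Fin (n + 1) ≃ M.sub := by
    refine Equiv.ofBijective (fun i => ⟨f i i.2, hf1 i i.2⟩) ⟨?_, ?_⟩
    · intro i j hij
      have h4 : f i i.2 = f j j.2 := congrArg Subtype.val hij
      have h5 : get T i = get T j := by rw [← hf2 i i.2, ← hf2 j j.2, h4]
      exact Fin.ext (hnd i (Nat.lt_succ_iff.mp i.2) j (Nat.lt_succ_iff.mp j.2) h5)
    · rintro ⟨z, hz⟩
      obtain ⟨i, hi, hzi⟩ := M.mem_table h (Nat.succ_pos n) h0 z hz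
      exact ⟨⟨i, hi⟩, Subtype.ext (M.inj (by rw [hf2, hzi]))⟩
  rw [← Nat.card_congr e, Nat.card_fin]

end Mod

end Cfsg.Agent.ONModel.Orb
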