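import Cfsg.Agent.ONModel.Orb

/-!
# Orbit tables with arbitrary letters

`closedR`/`reachR`/`card_closure`: tables for right multiplication; `closedC`/`reachC`: tables for conjugation.
-/

set_option autoImplicit false

namespace Cfsg.Agent.ONModel.Orb2

open Cfsg.Agent.Lib.PackMat Cfsg.Agent.ONModel.Orb

/-- check of a right multiplication table for one letter -/
noncomputable def chkR1 (n T s S : ℕ) : Bool := allBelow (fun i => force (get T i) fun X => okR n T s i S X) n

/-- check of a conjugation table for one letter -/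
noncomputable def chkC1 (n T s Si S : ℕ) : Bool :=
  allBelow (fun i => force (get T i) fun X => okC n T s i Si S X) n

/-- check of the spanning tree -/
noncomputable def chkTL (n par : ℕ) (ts : List ℕ) : Bool :=
  allBelow (fun i => bif Nat.beq i 0 then true else
    force (sg par i) fun p => bif Nat.blt p i then (ts.any fun s => Nat.beq (sg s p) i) else false) n

/-- search in a short table -/
noncomputable def anyB (T X : ℕ) (n : ℕ) : Bool :=
  Nat.rec (motive := fun _ => Bool) false (fun j ih => bif Nat.beq (get T j) X then true else ih) n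

theorem anyB_spec {T X n : ℕ} (h : anyB T X n = true) : ∃ j < n, X = get T j := by
  induction n with
  | zero => exact absurd h Bool.false_ne_true
  | succ n ih =>
    change (bif Nat.beq (get T n) X then true else anyB T X n) = true at h
    rcases cond_or h with h1 | h1
    · exact ⟨n, Nat.lt_succ_self n, (Nat.eq_of_beq_eq_true h1).symm⟩
    · obtain ⟨j, hj, h2⟩ := ih h1
      exact ⟨j, hj.trans (Nat.lt_succ_self n), h2⟩

theorem chkR1_spec {n T s S : ℕ} (h : chkR1 n T s S = true) (i : ℕ) (hi : i < n) :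
    sg s i < n ∧ Mat8.mul (get T i) S = get T (sg s i) := by
  have h1 := allBelow_spec h i hi
  rw [force_def] at h1
  exact okR_spec h1

theorem chkC1_spec {n T s Si S : ℕ} (h : chkC1 n T s Si S = true) (i : ℕ) (hi : i < n) :
    sg s i < n ∧ Mat8.mul (Mat8.mul Si (get T i)) S = get T (sg s i) := by
  have h1 := allBelow_spec h i hi
  rw [force_def] at h1
  exact okC_spec h1

theorem chkTL_spec {n par : ℕ} {ts : List ℕ} (h : chkTL n par ts = true)
    (i : ℕ) (hi : i < n) (hi0 : i ≠ 0) : ∃ p < i, ∃ s ∈ ts, sg s p = i := by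
  have h1 := allBelow_spec h i hi
  have h2 : Nat.beq i 0 = false := by
    cases i with
    | zero => exact absurd rfl hi0
    | succ i => rfl
  rw [h2, cond_false, force_def] at h1
  obtain ⟨h3, h1⟩ := cond_and h1
  obtain ⟨s, hs, h4⟩ := List.any_eq_true.mp h1
  exact ⟨sg par i, blt_true h3, s, hs, Nat.eq_of_beq_eq_true h4⟩

variable {C : Type*} [Group C] {code : C → ℕ} {b c d g : C} (M : Mod code b c d g)
include M

/-- Induction over the subgroup generated by a set of elements. -/
theorem induct {S : Set C} {P : C → Prop} (hl : ∀ x ∈ S, P x) (h1 : P 1)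
    (hm : ∀ x y, P x → P y → P (x * y)) : ∀ x ∈ Subgroup.closure S, P x := by
  have := M.fin
  intro x hx
  refine Subgroup.closure_induction (p := fun x _ => P x) hl h1 (fun x y _ _ => hm x y) ?_ hx
  intro y _ hy
  have hpow : ∀ n : ℕ, P (y ^ n) := by
    intro n
    induction n with
    | zero => rw [pow_zero]; exact h1
    | succ n ih => rw [pow_succ]; exact hm _ _ ih hy
  have h2 : y⁻¹ = y ^ (orderOf y - 1) := by
    have h3 : 0 < orderOf y := orderOf_pos y
    have h4 : y ^ (orderOf y - 1) * y = 1 := by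
      rw [← pow_succ, Nat.sub_add_cancel h3, pow_orderOf_eq_one]
    exact (eq_inv_of_mul_eq_one_left h4).symm
  rw [h2]
  exact hpow _

theorem closedR {S : Set C} {n T : ℕ} (hS : ∀ x ∈ S, ∃ s, chkR1 n T s (code x) = true) :
    ∀ y ∈ Subgroup.closure S, ∀ x, (∃ i < n, code x = get T i) → ∃ i < n, code (x * y) = get T i := by
  apply induct M (P := fun y => ∀ x, (∃ i < n, code x = get T i) → ∃ i < n, code (x * y) = get T i)
  · rintro y hy x ⟨i, hi, hx⟩
    obtain ⟨s, hs⟩ := hS y hy
    obtain ⟨h1, h2⟩ := chkR1_spec hs i hi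
    exact ⟨_, h1, by rw [M.mul, hx, h2]⟩
  · intro x hx
    simpa using hx
  · intro y z hy hz x hx
    rw [← mul_assoc]
    exact hz _ (hy x hx)

theorem closedC {S : Set C} {n T : ℕ} (hS : ∀ x ∈ S, ∃ s, chkC1 n T s (code x⁻¹) (code x) = true) :
    ∀ y ∈ Subgroup.closure S, ∀ x, (∃ i < n, code x = get T i) →
      ∃ i < n, code (y⁻¹ * x * y) = get T i := by
  apply induct M (P := fun y => ∀ x, (∃ i < n, code x = get T i) →
    ∃ i < n, code (y⁻¹ * x * y) = get T i)
  · rintro y hy x ⟨i, hi, hx⟩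
    obtain ⟨s, hs⟩ := hS y hy
    obtain ⟨h1, h2⟩ := chkC1_spec hs i hi
    exact ⟨_, h1, by rw [M.mul, M.mul, hx, h2]⟩
  · intro x hx
    simpa using hx
  · intro y z hy hz x hx
    have h2 : (y * z)⁻¹ * x * (y * z) = z⁻¹ * (y⁻¹ * x * y) * z := by group
    rw [h2]
    exact hz _ (hy x hx)

theorem reachR {S : Set C} {n T par : ℕ} {ts : List ℕ}
    (hts : ∀ s ∈ ts, ∃ x ∈ S, chkR1 n T s (code x) = true) (hT : chkTL n par ts = true)
    {x : C} (hx : code x = get T 0) : ∀ i < n, ∃ y ∈ Subgroup.closure S, code (x * y) = get T i := by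
  intro i
  induction i using Nat.strong_induction_on with
  | _ i ih =>
    intro hi
    by_cases hi0 : i = 0
    · exact ⟨1, Subgroup.one_mem _, by rw [hi0, mul_one, hx]⟩
    · obtain ⟨p, hp, s, hs, hpk⟩ := chkTL_spec hT i hi hi0
      obtain ⟨y, hyA, hy⟩ := ih p hp (hp.trans hi)
      obtain ⟨z, hz, hzs⟩ := hts s hs
      exact ⟨y * z, Subgroup.mul_mem _ hyA (Subgroup.subset_closure hz), by
        rw [← mul_assoc, M.mul, hy, (chkR1_spec hzs p (hp.trans hi)).2, hpk]⟩

theorem reachC {S : Set C} {n T par : ℕ} {ts : List ℕ}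
    (hts : ∀ s ∈ ts, ∃ x ∈ S, chkC1 n T s (code x⁻¹) (code x) = true) (hT : chkTL n par ts = true)
    {x : C} (hx : code x = get T 0) :
    ∀ i < n, ∃ y ∈ Subgroup.closure S, code (y⁻¹ * x * y) = get T i := by
  intro i
  induction i using Nat.strong_induction_on with
  | _ i ih =>
    intro hi
    by_cases hi0 : i = 0
    · exact ⟨1, Subgroup.one_mem _, by rw [hi0, inv_one, one_mul, mul_one, hx]⟩
    · obtain ⟨p, hp, s, hs, hpk⟩ := chkTL_spec hT i hi hi0
      obtain ⟨y, hyA, hy⟩ := ih p hp (hp.trans hi)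
      obtain ⟨z, hz, hzs⟩ := hts s hs
      refine ⟨y * z, Subgroup.mul_mem _ hyA (Subgroup.subset_closure hz), ?_⟩
      have h2 : (y * z)⁻¹ * x * (y * z) = z⁻¹ * (y⁻¹ * x * y) * z := by group
      rw [h2, M.mul, M.mul, hy, (chkC1_spec hzs p (hp.trans hi)).2, hpk]

theorem mem_iff {S : Set C} {n T par : ℕ} {ts : List ℕ} (hn : 0 < n)
    (hS : ∀ x ∈ S, ∃ s, chkR1 n T s (code x) = true)
    (hts : ∀ s ∈ ts, ∃ x ∈ S, chkR1 n T s (code x) = true) (hT : chkTL n par ts = true)
    (h0 : get T 0 = Mat8.one) (y : C) :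
    y ∈ Subgroup.closure S ↔ ∃ i < n, code y = get T i := by
  constructor
  · intro hy
    have := closedR M hS y hy 1 ⟨0, hn, by rw [M.one, h0]⟩
    rwa [one_mul] at this
  · rintro ⟨i, hi, hyi⟩
    obtain ⟨z, hz, hz'⟩ := reachR M hts hT (x := 1) (by rw [M.one, h0]) i hi
    rw [one_mul] at hz'
    rwa [M.inj (hyi.trans hz'.symm)]

theorem card_closure {S : Set C} {n T par P : ℕ} {ts : List ℕ}
    (hS : ∀ x ∈ S, ∃ s, chkR1 (n + 1) T s (code x) = true)
    (hts : ∀ s ∈ ts, ∃ x ∈ S, chkR1 (n + 1) T s (code x) = true) (hT : chkTL (n + 1) par ts = true)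
    (hN : chkN n T P = true) (hP : sg P n ≤ n) (h0 : get T 0 = Mat8.one) :
    Nat.card (Subgroup.closure S) = n + 1 := by
  have hnd := nodup hN hP
  have hm := mem_iff M (Nat.succ_pos n) hS hts hT h0
  have hf : ∀ i : Fin (n + 1), ∃ y ∈ Subgroup.closure S, code y = get T i := by
    intro i
    obtain ⟨y, hy, hy'⟩ := reachR M hts hT (x := 1) (by rw [M.one, h0]) i i.2
    rw [one_mul] at hy'
    exact ⟨y, hy, hy'⟩
  choose f hf1 hf2 using hf
  have e : Fin (n + 1) ≃ Subgroup.closure S := by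
    refine Equiv.ofBijective (fun i => ⟨f i, hf1 i⟩) ⟨?_, ?_⟩
    · intro i j hij
      have h4 : f i = f j := congrArg Subtype.val hij
      have h5 : get T i = get T j := by rw [← hf2 i, ← hf2 j, h4]
      exact Fin.ext (hnd i (Nat.lt_succ_iff.mp i.2) j (Nat.lt_succ_iff.mp j.2) h5)
    · rintro ⟨z, hz⟩
      obtain ⟨i, hi, hzi⟩ := (hm z).mp hz
      exact ⟨⟨i, hi⟩, Subtype.ext (M.inj (by rw [hf2, hzi]))⟩
  rw [← Nat.card_congr e, Nat.card_fin]

end Cfsg.Agent.ONModel.Orb2
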